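import Groth.Agent.LoccohB.KosP
import Groth.Prelude.Def_DRing2
import Mathlib.Algebra.Homology.DerivedCategory.SingleTriangle
import Mathlib.Algebra.Homology.HomotopyCategory.KProjective

/-! Artin-Rees for `Ext(K, -)`, `K` pseudo-coherent. -/

set_option autoImplicit false
universe u

open CategoryTheory CategoryTheory.Limits Pretriangulated
attribute [local instance] HasDerivedCategory.standard

namespace K855.ExtAR

open Groth.Agent.LoccohB.KosP

variable {A : Type u} [CommRing A]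

/-- the single functor -/
noncomputable abbrev sf (M : ModuleCat.{u} A) : Dual.D A :=
  (DerivedCategory.singleFunctor (ModuleCat.{u} A) 0).obj M

noncomputable abbrev sm {M N : ModuleCat.{u} A} (f : M ⟶ N) : sf M ⟶ sf N :=
  (DerivedCategory.singleFunctor (ModuleCat.{u} A) 0).map f

section Tri

universe v w

variable {C : Type w} [Category.{v} C] [Preadditive C] [HasZeroObject C] [HasShift C ℤ]
  [∀ n : ℤ, (shiftFunctor C n).Additive] [Pretriangulated C]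

theorem coyoneda₂ (T : Triangle C) (hT : T ∈ distTriang C) (K : C) (i : ℤ) (e : K ⟶ T.obj₂⟦i⟧)
    (he : e ≫ T.mor₂⟦i⟧' = 0) : ∃ e' : K ⟶ T.obj₁⟦i⟧, e' ≫ T.mor₁⟦i⟧' = e := by
  have hT' := Triangle.shift_distinguished T hT i
  obtain ⟨g, hg⟩ := Triangle.coyoneda_exact₂ _ hT' e (by
    have h : e ≫ (i.negOnePow • T.mor₂⟦i⟧') = 0 := by
      rw [Linear.comp_units_smul, he, smul_zero]
    exact h)
  let g' : K ⟶ T.obj₁⟦i⟧ := g
  have hg' : e = g' ≫ (i.negOnePow • T.mor₁⟦i⟧') := hg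
  refine ⟨i.negOnePow • g', ?_⟩
  rw [hg', Linear.units_smul_comp, Linear.comp_units_smul]

theorem coyoneda₃ (T : Triangle C) (hT : T ∈ distTriang C) (K : C) (i : ℤ) (e : K ⟶ T.obj₃⟦i⟧)
    (he : e ≫ T.mor₃⟦i⟧' = 0) : ∃ e' : K ⟶ T.obj₂⟦i⟧, e' ≫ T.mor₂⟦i⟧' = e := by
  have hT' := Triangle.shift_distinguished T hT i
  obtain ⟨g, hg⟩ := Triangle.coyoneda_exact₃ _ hT' e (by
    have h : e ≫ (i.negOnePow • T.mor₃⟦i⟧' ≫ (shiftFunctorComm C (1 : ℤ) i).hom.app T.obj₁) = 0 := by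
      rw [Linear.comp_units_smul, reassoc_of% he, zero_comp, smul_zero]
    exact h)
  let g' : K ⟶ T.obj₂⟦i⟧ := g
  have hg' : e = g' ≫ (i.negOnePow • T.mor₂⟦i⟧') := hg
  refine ⟨i.negOnePow • g', ?_⟩
  rw [hg', Linear.units_smul_comp, Linear.comp_units_smul]

end Tri

section LES

variable {S : ShortComplex (ModuleCat.{u} A)} (hS : S.ShortExact) (K : Dual.D A) (i : ℤ)

include hS in
theorem exists_of_comp_eq_zero (e : K ⟶ (sf S.X₂)⟦i⟧) (he : e ≫ (sm S.g)⟦i⟧' = 0) :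
    ∃ e' : K ⟶ (sf S.X₁)⟦i⟧, e' ≫ (sm S.f)⟦i⟧' = e :=
  coyoneda₂ _ hS.singleTriangle_distinguished K i e he

theorem exists_of_comp_δ_eq_zero (e : K ⟶ (sf S.X₃)⟦i⟧) (he : e ≫ hS.singleδ⟦i⟧' = 0) :
    ∃ e' : K ⟶ (sf S.X₂)⟦i⟧, e' ≫ (sm S.g)⟦i⟧' = e :=
  coyoneda₃ _ hS.singleTriangle_distinguished K i e he

theorem exists_of_map {S₁ S₂ : ShortComplex (ModuleCat.{u} A)} (h₁ : S₁.ShortExact) (h₂ : S₂.ShortExact)
    (φ : S₁ ⟶ S₂) (K : Dual.D A) (i : ℤ)
    (hj : ∀ e : K ⟶ (sf S₁.X₁)⟦i + 1⟧, e ≫ (sm φ.τ₁)⟦i + 1⟧' = 0) (e : K ⟶ (sf S₁.X₃)⟦i⟧) :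
    ∃ e' : K ⟶ (sf S₂.X₂)⟦i⟧, e' ≫ (sm S₂.g)⟦i⟧' = e ≫ (sm φ.τ₃)⟦i⟧' := by
  have hcomm : h₁.singleδ ≫ (sm φ.τ₁)⟦(1 : ℤ)⟧' = sm φ.τ₃ ≫ h₂.singleδ :=
    (ShortComplex.ShortExact.singleTriangle.map h₁ h₂ φ).comm₃
  apply exists_of_comp_δ_eq_zero h₂ K i
  rw [Category.assoc, ← Functor.map_comp, ← hcomm, Functor.map_comp, ← Category.assoc]
  have h1 := hj ((e ≫ h₁.singleδ⟦i⟧') ≫ (shiftFunctorAdd' (Dual.D A) 1 i (i + 1) (add_comm _ _)).inv.app _)
  rw [Category.assoc, ← NatTrans.naturality, ← Category.assoc] at h1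
  exact (Preadditive.IsIso.comp_right_eq_zero _ _).1 h1

end LES

section Main

variable (I : Ideal A) (M : Type u) [AddCommGroup M] [Module A M]
  (K : CochainComplex (ModuleCat.{u} A) ℤ) (i : ℤ)

/-- the inclusion `I ^ n M ⟶ M` -/
abbrev incl (n : ℕ) : ModuleCat.of A (powSub I M n) ⟶ ModuleCat.of A M :=
  ModuleCat.ofHom (powSub I M n).subtype

/-- the class of a cocycle -/
noncomputable def tclL : cocyc M K (-i) →ₗ[A] (DerivedCategory.Q.obj K ⟶ (sf (ModuleCat.of A M))⟦i⟧) where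
  toFun w := tcl (neg_add_cancel i) (ModuleCat.ofHom w.1) (by
    ext x
    exact LinearMap.congr_fun w.2 x)
  map_add' w w' := tcl_add (neg_add_cancel i) (ModuleCat.ofHom w.1) (ModuleCat.ofHom w'.1) _ _
  map_smul' r w := tcl_smul (neg_add_cancel i) r (ModuleCat.ofHom w.1) _

theorem tclL_surjective [K.IsKProjective] : Function.Surjective (tclL M K i) := by
  intro e
  obtain ⟨f, hf, rfl⟩ := tcl_surjective (K := K) (X := ModuleCat.of A M) (neg_add_cancel i) e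
  refine ⟨⟨f.hom, ?_⟩, rfl⟩
  rw [mem_cocyc_iff]
  ext x
  exact congrArg (fun t => t.hom x) hf

variable [IsNoetherianRing A] [Module.Finite A M] [K.IsKProjective]

theorem finite_hom_sf (hfin : ∀ i, Module.Finite A (K.X i)) :
    Module.Finite A (DerivedCategory.Q.obj K ⟶ (sf (ModuleCat.of A M))⟦i⟧) := by
  have := hfin (-i)
  have : Module.Finite A (K.X (-i) →ₗ[A] M) := finite_hom
  exact Module.Finite.of_surjective _ (tclL_surjective M K i)

omit [IsNoetherianRing A] [Module.Finite A M] [K.IsKProjective] in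
theorem exists_pow {H : Type*} [AddCommGroup H] [Module A H] [Module.Finite A H]
    (htors : ∀ e : H, ∃ n : ℕ, ∀ x ∈ I ^ n, x • e = 0) : ∃ N : ℕ, ∀ a ∈ I ^ N, ∀ e : H, a • e = 0 := by
  classical
  obtain ⟨s, hs⟩ := Module.Finite.fg_top (R := A) (M := H)
  choose f hf using htors
  refine ⟨s.sup f, fun a ha e => ?_⟩
  have he : e ∈ Submodule.span A (s : Set H) := by rw [hs]; trivial
  induction he using Submodule.span_induction with
  | mem x hx => exact hf x a (Ideal.pow_le_pow_right (Finset.le_sup hx) ha)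
  | zero => exact smul_zero _
  | add x y _ _ h1 h2 => rw [smul_add, h1, h2, add_zero]
  | smul b x _ h1 => rw [smul_comm, h1, smul_zero]

theorem exists_zero (hfin : ∀ i, Module.Finite A (K.X i)) (hproj : ∀ i, Module.Projective A (K.X i))
    (htors : ∀ e : DerivedCategory.Q.obj K ⟶ (sf (ModuleCat.of A M))⟦i⟧, ∃ n : ℕ, ∀ x ∈ I ^ n, x • e = 0) :
    ∃ n : ℕ, ∀ e : DerivedCategory.Q.obj K ⟶ (sf (ModuleCat.of A (powSub I M n)))⟦i⟧,
      e ≫ (sm (incl I M n))⟦i⟧' = 0 := by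
  have := finite_hom_sf M K i hfin
  obtain ⟨N, hN⟩ := exists_pow I htors
  have hfin' := hfin (-i)
  have hproj' := hproj (-i)
  have : Module.Finite A (K.X (-i) →ₗ[A] M) := finite_hom
  obtain ⟨c, hc⟩ := Ideal.exists_pow_inf_eq_pow_smul I (cocyc M K (-i))
  have hc' := hc (N + c) (Nat.le_add_left _ _)
  rw [Nat.add_sub_cancel] at hc'
  refine ⟨N + c, fun e => ?_⟩
  obtain ⟨f, hf, rfl⟩ := tcl_surjective (K := K)
    (X := ModuleCat.of A (powSub I M (N + c))) (neg_add_cancel i) e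
  let f' : K.X (-i) →ₗ[A] M := (powSub I M (N + c)).subtype ∘ₗ f.hom
  have hf' : f' ∈ cocyc M K (-i) := by
    rw [mem_cocyc_iff]
    ext x
    exact congrArg (fun t => (powSub I M (N + c)).subtype (t.hom x)) hf
  have hf'' : f' ∈ (I ^ (N + c) • ⊤ : Submodule A (K.X (-i) →ₗ[A] M)) :=
    mem_smul_top_of_forall _ _ fun x => (f.hom x).2
  have hmem : f' ∈ I ^ (N + c) • (⊤ : Submodule A (K.X (-i) →ₗ[A] M)) ⊓ cocyc M K (-i) :=
    ⟨hf'', hf'⟩
  rw [hc'] at hmem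
  have key : ∀ w ∈ I ^ N • (I ^ c • (⊤ : Submodule A (K.X (-i) →ₗ[A] M)) ⊓ cocyc M K (-i)),
      ∃ hw : w ∈ cocyc M K (-i), tclL M K i ⟨w, hw⟩ = 0 := by
    intro w hw
    refine Submodule.smul_induction_on hw (fun a ha y hy => ?_) (fun w w' h1 h2 => ?_)
    · have hy1 : y ∈ cocyc M K (-i) := hy.2
      refine ⟨Submodule.smul_mem _ a hy1, ?_⟩
      have h1 : (⟨a • y, Submodule.smul_mem _ a hy1⟩ : cocyc M K (-i)) = a • ⟨y, hy1⟩ := rfl
      rw [h1, map_smul, hN a ha]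
    · obtain ⟨h1, h1'⟩ := h1
      obtain ⟨h2, h2'⟩ := h2
      refine ⟨Submodule.add_mem _ h1 h2, ?_⟩
      have h3 : (⟨w + w', Submodule.add_mem _ h1 h2⟩ : cocyc M K (-i)) = ⟨w, h1⟩ + ⟨w', h2⟩ := rfl
      rw [h3, map_add, h1', h2', add_zero]
  obtain ⟨hw, hw'⟩ := key f' hmem
  exact (tcl_postcomp (neg_add_cancel i) f hf (incl I M (N + c))).symm.trans hw'

end Main

section Final

variable (I : Ideal A) [IsNoetherianRing A] (K : Dual.D A) (hK : DRing.IsPseudoCoherent' A K)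

include hK in
theorem exists_zero' (M : Type u) [AddCommGroup M] [Module A M] [Module.Finite A M] (i : ℤ)
    (htors : ∀ e : K ⟶ (sf (ModuleCat.of A M))⟦i⟧, ∃ n : ℕ, ∀ x ∈ I ^ n, x • e = 0) :
    ∃ n : ℕ, ∀ e : K ⟶ (sf (ModuleCat.of A (powSub I M n)))⟦i⟧, e ≫ (sm (incl I M n))⟦i⟧' = 0 := by
  obtain ⟨E, b, hb, hE, ⟨ε⟩⟩ := hK
  have : E.IsStrictlyLE b := (CochainComplex.isStrictlyLE_iff E b).2 hb
  have hproj : ∀ n : ℤ, Module.Projective A (E.X n) := fun n => by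
    have := (hE n).2
    infer_instance
  have hproj' : ∀ n : ℤ, Projective (E.X n) := fun n => by
    have := hproj n
    exact (IsProjective.iff_projective _).1 this
  have : E.IsKProjective := CochainComplex.isKProjective_of_projective E b
  obtain ⟨n, hn⟩ := exists_zero I M E i (fun j => (hE j).1) hproj (fun e => by
    obtain ⟨n, hn⟩ := htors (ε.inv ≫ e)
    refine ⟨n, fun x hx => ?_⟩
    have h1 := hn x hx
    rw [← Linear.comp_smul] at h1
    rwa [Preadditive.IsIso.comp_left_eq_zero] at h1)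
  refine ⟨n, fun e => ?_⟩
  have h1 := hn (ε.hom ≫ e)
  rw [Category.assoc] at h1
  exact (Preadditive.IsIso.comp_left_eq_zero _ _).1 h1

end Final

end K855.ExtAR
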